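import Cfsg.Agent.H337.HT.QS

/-!
# S3540, quasisimple rows: coverage tools (task T3)

`cov`, `cov_card`, `covL`, `covL_card`, `rank_two`.
-/

set_option autoImplicit false
set_option linter.unusedSectionVars false

open scoped Classical

universe u w

namespace Cfsg.Agent.H578.HT

open Cfsg.Agent.H828.HT Cfsg.Agent.H337.HT

/-! ### Group theory -/

/-- an automorphism of a group acts on the group modulo its centre -/
def toS (A : Type*) [Group A] : MulAut A →* MulAut (A ⧸ Subgroup.center A) where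
  toFun α := QuotientGroup.congr (Subgroup.center A) (Subgroup.center A) α
    (Subgroup.characteristic_iff_map_eq.1 inferInstance α)
  map_one' := by
    ext x
    induction x using QuotientGroup.induction_on with
    | H a => rfl
  map_mul' α β := by
    ext x
    induction x using QuotientGroup.induction_on with
    | H a => rfl

theorem toS_mk {A : Type*} [Group A] (α : MulAut A) (a : A) :
    toS A α (QuotientGroup.mk a) = QuotientGroup.mk (α a) := rfl

/-- an element of prime order `r` lies in every normal subgroup of index prime to `r` -/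
theorem mem_of_not_dvd_index {A : Type*} [Group A] [Finite A] (N : Subgroup A) [N.Normal] {r : ℕ}
    (hr : r.Prime) (hN : ¬ r ∣ N.index) {a : A} (ha : a ^ r = 1) : a ∈ N := by
  rw [← QuotientGroup.eq_one_iff]
  have h1 : (QuotientGroup.mk a : A ⧸ N) ^ r = 1 := by
    rw [← QuotientGroup.mk_pow, ha]; rfl
  have h2 : orderOf (QuotientGroup.mk a : A ⧸ N) ∣ r := orderOf_dvd_of_pow_eq_one h1
  rcases (Nat.dvd_prime hr).1 h2 with h3 | h3
  · exact orderOf_eq_one_iff.1 h3
  · exact absurd (by rw [Subgroup.index_eq_card, ← h3]; exact orderOf_dvd_natCard _) hN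

theorem conj_range_normal (A : Type*) [Group A] : ((MulAut.conj : A →* MulAut A).range).Normal := by
  constructor
  rintro _ ⟨x, rfl⟩ α
  refine ⟨α x, ?_⟩
  ext y
  simp only [MulAut.conj_apply, MulAut.mul_apply]
  have : y = α (α⁻¹ y) := by
    rw [← MulAut.mul_apply, mul_inv_cancel]; rfl
  conv_lhs => rw [this]
  rw [← map_mul, ← map_inv, ← map_mul]

/-- a simple group with trivial centre: inner automorphisms -/
theorem inner_of_pow {S : Type*} [Group S] [Finite S] (hc : Subgroup.center S = ⊥) {r : ℕ} (hr : r.Prime)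
    (hout : ¬ r ∣ Nat.card (MulAut S) / Nat.card S) {α : MulAut S} (ha : α ^ r = 1) :
    ∃ x : S, α = MulAut.conj x := by
  have : Finite (MulAut S) := Finite.of_injective (fun g : MulAut S => (g : S → S)) DFunLike.coe_injective
  have := conj_range_normal S
  have hinj : Function.Injective (MulAut.conj : S →* MulAut S) := by
    rw [injective_iff_map_eq_one]
    intro x hx
    have : x ∈ Subgroup.center S := by
      rw [Subgroup.mem_center_iff]
      intro y
      have h1 := DFunLike.congr_fun hx y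
      rw [MulAut.conj_apply] at h1
      have h2 : x * y * x⁻¹ = y := h1
      rw [mul_inv_eq_iff_eq_mul] at h2
      exact h2.symm
    rwa [hc, Subgroup.mem_bot] at this
  have hidx : ((MulAut.conj : S →* MulAut S).range).index = Nat.card (MulAut S) / Nat.card S := by
    have h1 := Subgroup.card_mul_index ((MulAut.conj : S →* MulAut S).range)
    have h2 : Nat.card ((MulAut.conj : S →* MulAut S).range) = Nat.card S :=
      (Nat.card_congr (MonoidHom.ofInjective hinj).toEquiv).symm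
    rw [h2] at h1
    rw [← h1, Nat.mul_div_cancel_left _ Nat.card_pos]
  obtain ⟨x, hx⟩ := mem_of_not_dvd_index _ hr (by rw [hidx]; exact hout) ha
  exact ⟨x, hx.symm⟩

/-- an endomorphism-like map of a perfect group that is trivial modulo the centre is trivial -/
theorem eq_id_of_mod_center {A : Type*} [Group A] (hp : commutator A = ⊤) (β : A →* A)
    (h : ∀ a, β a * a⁻¹ ∈ Subgroup.center A) (a : A) : β a = a := by
  let z : A →* Subgroup.center A :=
    { toFun := fun a => ⟨β a * a⁻¹, h a⟩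
      map_one' := Subtype.ext (by simp)
      map_mul' := fun a b => by
        refine Subtype.ext ?_
        change β (a * b) * (a * b)⁻¹ = (β a * a⁻¹) * (β b * b⁻¹)
        have h1 := Subgroup.mem_center_iff.1 (h b) a⁻¹
        rw [mul_assoc (β a), h1, map_mul]
        group }
  have h1 : commutator A ≤ z.ker := by
    rw [commutator_def, Subgroup.commutator_le]
    intro x _ y _
    rw [MonoidHom.mem_ker, map_commutatorElement, commutatorElement_eq_one_iff_mul_comm]
    exact Subtype.ext (Subgroup.mem_center_iff.1 (z y).2 (z x : A))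
  rw [hp] at h1
  have h2 : z a = 1 := h1 (Subgroup.mem_top a)
  have h3 : β a * a⁻¹ = 1 := congrArg Subtype.val h2
  exact mul_inv_eq_one.1 h3

/-! ### The setting -/

variable {p : ℕ} [Fact p.Prime] {K : Type w} [Field K] {V : Type u} [AddCommGroup V] [Module (ZMod p) V]
  [Module K V] {G L : Subgroup (V ≃ₗ[ZMod p] V)} {h : ℕ}

/-- conjugation by elements normalising `L` -/
def cj (g : V ≃ₗ[ZMod p] V) (L : Subgroup (V ≃ₗ[ZMod p] V)) (hg : ∀ l ∈ L, g * l * g⁻¹ ∈ L)
    (hg' : ∀ l ∈ L, g⁻¹ * l * g⁻¹⁻¹ ∈ L) : MulAut L where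
  toFun l := ⟨g * l * g⁻¹, hg l l.2⟩
  invFun l := ⟨g⁻¹ * l * g⁻¹⁻¹, hg' l l.2⟩
  left_inv l := Subtype.ext (by simp [mul_assoc])
  right_inv l := Subtype.ext (by simp [mul_assoc])
  map_mul' l m := Subtype.ext (by simp [mul_assoc])

theorem center_quot (H : QS p K V G L h) : Subgroup.center (L ⧸ Subgroup.center L) = ⊥ := by
  have := H.simple
  rcases IsSimpleGroup.eq_bot_or_eq_top_of_normal (Subgroup.center (L ⧸ Subgroup.center L)) inferInstance
    with h1 | h1
  · exact h1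
  exfalso
  have h2 : commutator (L ⧸ Subgroup.center L) = ⊤ := by
    have h3 : (commutator L).map (QuotientGroup.mk' (Subgroup.center L)) =
        commutator (L ⧸ Subgroup.center L) := by
      rw [commutator_def, Subgroup.map_commutator, commutator_def]
      congr 1 <;>
      exact Subgroup.map_top_of_surjective _ (QuotientGroup.mk'_surjective _)
    rw [← h3, H.perf]
    exact Subgroup.map_top_of_surjective _ (QuotientGroup.mk'_surjective _)
  have h4 : commutator (L ⧸ Subgroup.center L) ≤ ⊥ := by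
    rw [commutator_def, Subgroup.commutator_le]
    intro x _ y _
    rw [Subgroup.mem_bot, commutatorElement_eq_one_iff_mul_comm]
    have : y ∈ Subgroup.center (L ⧸ Subgroup.center L) := h1 ▸ Subgroup.mem_top y
    exact Subgroup.mem_center_iff.1 this x
  rw [h2] at h4
  exact top_ne_bot (le_antisymm h4 bot_le)

/-- an element of `L` commuting with `L` is a scalar -/
theorem scal_of_cen (H : QS p K V G L h) {g : V ≃ₗ[ZMod p] V} (hg : ∀ l ∈ L, g * l = l * g) :
    ∃ c : K, ∀ v, g v = c • v := by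
  refine H.endo (g : V →ₗ[ZMod p] V) ?_
  intro l hl v
  exact congrArg (fun e : V ≃ₗ[ZMod p] V => e v) (hg l hl)

theorem mem_center_of_scal (H : QS p K V G L h) {x : L} {c : K}
    (hc : ∀ v, (x : V ≃ₗ[ZMod p] V) v = c • v) : x ∈ Subgroup.center L := by
  rw [Subgroup.mem_center_iff]
  intro l
  refine Subtype.ext (LinearEquiv.ext fun v => ?_)
  change (l : V ≃ₗ[ZMod p] V) ((x : V ≃ₗ[ZMod p] V) v) = (x : V ≃ₗ[ZMod p] V) ((l : V ≃ₗ[ZMod p] V) v)
  rw [hc, hc, H.lin _ l.2]

theorem scal_of_mem_center (H : QS p K V G L h) {x : L} (hx : x ∈ Subgroup.center L) :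
    ∃ c : K, ∀ v, (x : V ≃ₗ[ZMod p] V) v = c • v :=
  scal_of_cen H (fun l hl => (congrArg Subtype.val (Subgroup.mem_center_iff.1 hx ⟨l, hl⟩)).symm)

variable [Finite V]

/-- **inner elements.** An element of prime order `r` of `G`, `r` prime to `|Out S|`, is `x c` with `x ∈ L`
and a scalar `c`. -/
theorem inner_scal (H : QS p K V G L h) {r : ℕ} (hr : r.Prime)
    (hout : ¬ r ∣ Nat.card (MulAut (L ⧸ Subgroup.center L)) / Nat.card (L ⧸ Subgroup.center L))
    {g : V ≃ₗ[ZMod p] V} (hg : g ∈ G) (hgr : g ^ r = 1) :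
    ∃ (x : L) (c : K), c ≠ 0 ∧ ∀ v, g v = (x : V ≃ₗ[ZMod p] V) (c • v) := by
  set S := L ⧸ Subgroup.center L
  have hn := H.nrm g hg
  have hn' := H.nrm g⁻¹ (G.inv_mem hg)
  set α : MulAut L := cj g L hn hn' with hα
  have hαk : ∀ (k : ℕ) (l : L), ((α ^ k) l : V ≃ₗ[ZMod p] V) = g ^ k * l * (g ^ k)⁻¹ := by
    intro k
    induction k with
    | zero => intro l; simp
    | succ k ih =>
      intro l
      rw [pow_succ, MulAut.mul_apply, ih]
      change g ^ k * (g * l * g⁻¹) * (g ^ k)⁻¹ = _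
      rw [pow_succ]
      group
  have hαr : α ^ r = 1 := by
    ext l : 1
    refine Subtype.ext ?_
    rw [hαk, hgr]
    simp
  obtain ⟨xb, hxb⟩ := inner_of_pow (center_quot H) hr hout (α := toS L α) (by rw [← map_pow, hαr, map_one])
  obtain ⟨x, rfl⟩ := QuotientGroup.mk_surjective xb
  -- `β` = conjugation by `x⁻¹ g`
  let β : L →* L := ((MulAut.conj x⁻¹ * α : MulAut L) : L ≃* L).toMonoidHom
  have hβ : ∀ l, β l = x⁻¹ * α l * x := by
    intro l
    change (MulAut.conj x⁻¹) (α l) = _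
    rw [MulAut.conj_apply, inv_inv]
  have h1 : ∀ l, β l = l := by
    refine eq_id_of_mod_center H.perf β ?_
    intro l
    rw [hβ, ← QuotientGroup.eq_one_iff]
    have h2 := DFunLike.congr_fun hxb (QuotientGroup.mk l)
    rw [toS_mk, MulAut.conj_apply] at h2
    rw [QuotientGroup.mk_mul, QuotientGroup.mk_mul, QuotientGroup.mk_mul, h2]
    simp [mul_assoc]
  obtain ⟨c, hc⟩ := scal_of_cen H (g := (x : V ≃ₗ[ZMod p] V)⁻¹ * g) (by
    intro l hl
    have h2 := congrArg Subtype.val (h1 ⟨l, hl⟩)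
    rw [hβ] at h2
    have h3 : (x : V ≃ₗ[ZMod p] V)⁻¹ * (g * l * g⁻¹) * x = l := h2
    have h4 : (x : V ≃ₗ[ZMod p] V)⁻¹ * (g * l * g⁻¹) * x * ((x : V ≃ₗ[ZMod p] V)⁻¹ * g) =
        (x : V ≃ₗ[ZMod p] V)⁻¹ * g * l := by group
    rw [h3] at h4
    exact h4.symm)
  have hgv : ∀ v, g v = (x : V ≃ₗ[ZMod p] V) (c • v) := by
    intro v
    rw [← hc v]
    change g v = ((x : V ≃ₗ[ZMod p] V) * ((x : V ≃ₗ[ZMod p] V)⁻¹ * g)) v
    rw [mul_inv_cancel_left]
  refine ⟨x, c, ?_, hgv⟩
  rintro rfl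
  have : ∀ v : V, v = 0 := by
    intro v
    apply g.injective
    rw [hgv, zero_smul, map_zero, map_zero]
  obtain ⟨a, -, b, -, hab⟩ := H.nonab
  apply hab
  ext v
  rw [this ((a * b) v), this ((b * a) v)]

/-- (COV) -/
theorem cov (H : QS p K V G L h) {r : ℕ} (hr : r.Prime) (hrh : r ∣ h)
    (hout : ¬ r ∣ Nat.card (MulAut (L ⧸ Subgroup.center L)) / Nat.card (L ⧸ Subgroup.center L)) :
    ∀ v : V, v ≠ 0 → ∃ x : L, x ∉ Subgroup.center L ∧ x ^ r ∈ Subgroup.center L ∧
      ∃ c : K, (x : V ≃ₗ[ZMod p] V) v = c • v := by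
  intro v hv
  have : Fact r.Prime := ⟨hr⟩
  rw [← H.half v hv] at hrh
  obtain ⟨g, hg⟩ := exists_prime_orderOf_dvd_card' r hrh
  have hgr : ((g : G) : V ≃ₗ[ZMod p] V) ^ r = 1 := by
    have h1 := pow_orderOf_eq_one g
    rw [hg] at h1
    exact congrArg (fun t : MulAction.stabilizer G v => ((t : G) : V ≃ₗ[ZMod p] V)) h1
  obtain ⟨x, c, hc, hx⟩ := inner_scal H hr hout (g : G).2 hgr
  have hgv : ((g : G) : V ≃ₗ[ZMod p] V) v = v := g.2
  have hxv : (x : V ≃ₗ[ZMod p] V) v = c⁻¹ • v := by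
    have h1 := hx v
    rw [hgv, H.lin _ x.2] at h1
    conv_rhs => rw [h1]
    rw [smul_smul, inv_mul_cancel₀ hc, one_smul]
  refine ⟨x, ?_, ?_, c⁻¹, hxv⟩
  · intro hxc
    obtain ⟨d, hd⟩ := scal_of_mem_center H hxc
    have h1 : ∀ u, ((g : G) : V ≃ₗ[ZMod p] V) u = (d * c) • u := by
      intro u
      rw [hx, hd, smul_smul]
    have h2 : d * c = 1 := by
      have h3 := h1 v
      rw [hgv] at h3
      have h4 : (d * c - 1) • v = 0 := by rw [sub_smul, one_smul, ← h3, sub_self]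
      rcases smul_eq_zero.1 h4 with h5 | h5
      · exact sub_eq_zero.1 h5
      · exact absurd h5 hv
    have h3 : g = 1 := by
      refine Subtype.ext (Subtype.ext (LinearEquiv.ext fun u => ?_))
      rw [h1, h2, one_smul]; rfl
    rw [h3, orderOf_one] at hg
    exact hr.one_lt.ne hg
  · -- `x ^ r` is a scalar
    have h1 : ∀ (k : ℕ) (u : V), (((g : G) : V ≃ₗ[ZMod p] V) ^ k) u =
        (((x : V ≃ₗ[ZMod p] V)) ^ k) (c ^ k • u) := by
      intro k
      induction k with
      | zero => intro u; simp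
      | succ k ih =>
        intro u
        rw [pow_succ' , pow_succ' (x : V ≃ₗ[ZMod p] V), pow_succ']
        change ((g : G) : V ≃ₗ[ZMod p] V) ((((g : G) : V ≃ₗ[ZMod p] V) ^ k) u) =
          (x : V ≃ₗ[ZMod p] V) (((x : V ≃ₗ[ZMod p] V) ^ k) ((c * c ^ k) • u))
        rw [ih, hx, mul_smul]
        congr 1
        rw [H.lin _ (L.pow_mem x.2 k) c]
    refine mem_center_of_scal H (c := (c ^ r)⁻¹) ?_
    intro u
    have h2 := h1 r ((c ^ r)⁻¹ • u)
    rw [hgr, smul_smul, mul_inv_cancel₀ (pow_ne_zero _ hc), one_smul] at h2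
    exact h2.symm

/-! ### Counting -/

theorem exists_ne_zero (H : QS p K V G L h) : ∃ v : V, v ≠ 0 := by
  by_contra hc
  push Not at hc
  obtain ⟨a, -, b, -, hab⟩ := H.nonab
  apply hab
  ext v
  rw [hc ((a * b) v), hc ((b * a) v)]

theorem finK (H : QS p K V G L h) : Finite K := by
  obtain ⟨v, hv⟩ := exists_ne_zero H
  exact Finite.of_injective (fun c : K => c • v) (smul_left_injective K hv)

theorem card_V (H : QS p K V G L h) : Nat.card V = Nat.card K ^ Module.finrank K V := by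
  have := finK H
  have : Module.Finite K V := Module.Finite.of_finite
  exact Module.natCard_eq_pow_finrank

/-- an element of `L` as a `K`-linear map -/
def kl (H : QS p K V G L h) (x : L) : V →ₗ[K] V where
  toFun v := (x : V ≃ₗ[ZMod p] V) v
  map_add' := map_add _
  map_smul' c v := H.lin _ x.2 c v

@[simp] theorem kl_apply (H : QS p K V G L h) (x : L) (v : V) :
    kl H x v = (x : V ≃ₗ[ZMod p] V) v := rfl

omit [Finite V] in
theorem sum_finrank_le [Module.Finite K V] {ι : Type*} [Fintype ι] [DecidableEq ι]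
    (E : ι → Submodule K V) (hE : iSupIndep E) :
    ∑ i, Module.finrank K (E i) ≤ Module.finrank K V := by
  have h1 := LinearMap.finrank_le_finrank_of_injective (hE.dfinsupp_lsum_injective)
  refine le_trans (le_of_eq ?_) h1
  exact (Module.finrank_directSum K (fun i => E i)).symm

theorem conv1 {q a : ℕ} (hq : 1 ≤ q) : (a + 1) * (q ^ a - 1) ≤ a * (q ^ (a + 1) - 1) := by
  obtain ⟨t, rfl⟩ : ∃ t, q = t + 1 := ⟨q - 1, by omega⟩
  have h1 : 1 ≤ (t + 1) ^ a := Nat.one_le_pow _ _ (by omega)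
  obtain ⟨Q, hQ⟩ : ∃ Q, (t + 1) ^ a = Q + 1 := ⟨(t + 1) ^ a - 1, by omega⟩
  rw [pow_succ, hQ]
  have h2 : (Q + 1) * (t + 1) - 1 = Q * t + Q + t := by
    have : (Q + 1) * (t + 1) = Q * t + Q + t + 1 := by ring
    omega
  rw [h2, Nat.add_sub_cancel]
  rcases Nat.eq_zero_or_pos a with rfl | ha
  · simp at hQ; subst hQ; simp
  · rcases Nat.eq_zero_or_pos t with rfl | ht
    · simp at hQ; subst hQ; simp
    · have h3 : 1 * 1 ≤ a * t := Nat.mul_le_mul ha ht
      nlinarith

theorem conv {q a d : ℕ} (hq : 1 ≤ q) (had : a ≤ d) : d * (q ^ a - 1) ≤ a * (q ^ d - 1) := by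
  induction d, had using Nat.le_induction with
  | base => exact le_rfl
  | succ d had ih =>
    rcases Nat.eq_zero_or_pos d with rfl | hd
    · obtain rfl : a = 0 := by omega
      simp
    · have h1 := conv1 (a := d) hq
      refine Nat.le_of_mul_le_mul_left ?_ hd
      calc d * ((d + 1) * (q ^ a - 1)) = (d + 1) * (d * (q ^ a - 1)) := by ring
        _ ≤ (d + 1) * (a * (q ^ d - 1)) := Nat.mul_le_mul_left _ ih
        _ = a * ((d + 1) * (q ^ d - 1)) := by ring
        _ ≤ a * (d * (q ^ (d + 1) - 1)) := Nat.mul_le_mul_left _ h1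
        _ = d * (a * (q ^ (d + 1) - 1)) := by ring

theorem natCard_le_sum {ι X : Type*} [Fintype ι] [Finite X] (P : X → Prop) (Q : ι → X → Prop)
    (h : ∀ x, P x → ∃ i, Q i x) : Nat.card {x // P x} ≤ ∑ i, Nat.card {x // Q i x} := by
  rw [← Nat.card_sigma]
  choose g hg using h
  refine Nat.card_le_card_of_injective
    (fun x : {x // P x} => (⟨g x x.2, ⟨x, hg x x.2⟩⟩ : Σ i, {x // Q i x})) ?_
  intro x y hxy
  have h1 := (Sigma.mk.inj_iff.1 hxy).1
  have h2 := (Sigma.mk.inj_iff.1 hxy).2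
  have h3 : ∀ (i j : ι) (a : {x // Q i x}) (b : {x // Q j x}), i = j → HEq a b → (a : X) = b := by
    rintro i _ a b rfl hab
    rw [eq_of_heq hab]
  exact Subtype.ext (h3 _ _ _ _ h1 h2)

theorem natCard_ne_zero_and {X : Type*} [AddGroup X] [Finite X] (P : X → Prop) (h0 : P 0) :
    Nat.card {x // x ≠ 0 ∧ P x} = Nat.card {x // P x} - 1 := by
  let _ : Fintype X := Fintype.ofFinite X
  have h1 : Finset.univ.filter (fun x : X => x ≠ 0 ∧ P x) = (Finset.univ.filter (fun x : X => P x)).erase 0 := by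
    ext x; simp
  rw [Nat.card_eq_fintype_card, Nat.card_eq_fintype_card, Fintype.card_subtype, Fintype.card_subtype, h1,
    Finset.card_erase_of_mem (by simpa using h0)]

theorem natCard_ne_zero : Nat.card {v : V // v ≠ 0} = Nat.card V - 1 := by
  have h1 := natCard_ne_zero_and (fun _ : V => True) trivial
  rw [Nat.card_congr (Equiv.subtypeUnivEquiv (fun _ : V => trivial))] at h1
  rw [← h1]
  exact Nat.card_congr (Equiv.subtypeEquivRight (by simp))

/-- the number of non-zero eigenvectors of an element of `L` -/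
theorem eig_card (H : QS p K V G L h) {d k : ℕ} (y : L)
    (hd : ∀ c : K, Nat.card {v : V // (y : V ≃ₗ[ZMod p] V) v = c • v} ≤ Nat.card K ^ d)
    (hk : Module.finrank K V ≤ k * d) :
    Nat.card {v : V // v ≠ 0 ∧ ∃ c : K, (y : V ≃ₗ[ZMod p] V) v = c • v} ≤
      k * (Nat.card K ^ d - 1) := by
  have := finK H
  have : Module.Finite K V := Module.Finite.of_finite
  let _ : Fintype K := Fintype.ofFinite K
  set q := Nat.card K with hq
  have hq1 : 1 < q := Finite.one_lt_card
  let E : K → Submodule K V := fun c => Module.End.eigenspace (kl H y) c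
  have hE : ∀ (c : K) (v : V), v ∈ E c ↔ (y : V ≃ₗ[ZMod p] V) v = c • v := by
    intro c v
    exact Module.End.mem_eigenspace_iff
  have hcard : ∀ c, Nat.card (E c) = q ^ Module.finrank K (E c) := fun c =>
    Module.natCard_eq_pow_finrank
  have hcard2 : ∀ c, Nat.card (E c) = Nat.card {v : V // (y : V ≃ₗ[ZMod p] V) v = c • v} := fun c =>
    Nat.card_congr (Equiv.subtypeEquivRight (hE c))
  have had : ∀ c, Module.finrank K (E c) ≤ d := by
    intro c
    have h1 := hd c
    rw [← hcard2, hcard] at h1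
    exact (Nat.pow_le_pow_iff_right hq1).1 h1
  have hsum : ∑ c, Module.finrank K (E c) ≤ Module.finrank K V :=
    sum_finrank_le E (Module.End.eigenspaces_iSupIndep _)
  -- the set of eigenvectors
  have h1 : Nat.card {v : V // v ≠ 0 ∧ ∃ c : K, (y : V ≃ₗ[ZMod p] V) v = c • v} ≤
      ∑ c : K, (q ^ Module.finrank K (E c) - 1) := by
    refine (natCard_le_sum (ι := K) _ (fun c v => v ≠ 0 ∧ (y : V ≃ₗ[ZMod p] V) v = c • v)
      (fun v hv => ?_)).trans (le_of_eq ?_)
    · obtain ⟨hv0, c, hc⟩ := hv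
      exact ⟨c, hv0, hc⟩
    · refine Finset.sum_congr rfl (fun c _ => ?_)
      rw [natCard_ne_zero_and _ (by rw [map_zero, smul_zero]), ← hcard2, hcard]
  refine h1.trans ?_
  rcases Nat.eq_zero_or_pos d with rfl | hd0
  · have : ∀ c, Module.finrank K (E c) = 0 := fun c => Nat.le_zero.1 (had c)
    simp [this]
  · refine Nat.le_of_mul_le_mul_left ?_ hd0
    calc d * ∑ c : K, (q ^ Module.finrank K (E c) - 1)
        = ∑ c : K, d * (q ^ Module.finrank K (E c) - 1) := Finset.mul_sum _ _ _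
      _ ≤ ∑ c : K, Module.finrank K (E c) * (q ^ d - 1) :=
          Finset.sum_le_sum (fun c _ => conv hq1.le (had c))
      _ = (∑ c : K, Module.finrank K (E c)) * (q ^ d - 1) := (Finset.sum_mul _ _ _).symm
      _ ≤ (k * d) * (q ^ d - 1) := Nat.mul_le_mul_right _ (hsum.trans hk)
      _ = d * (k * (q ^ d - 1)) := by ring

omit [Finite V] in
theorem card_zpowers_mk (x : L) {r : ℕ} (hr : r.Prime) (h1 : x ∉ Subgroup.center L)
    (h2 : x ^ r ∈ Subgroup.center L) :
    Nat.card (Subgroup.zpowers (QuotientGroup.mk x : L ⧸ Subgroup.center L)) = r := by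
  rw [Nat.card_zpowers]
  have : Fact r.Prime := ⟨hr⟩
  refine orderOf_eq_prime ?_ ?_
  · rw [← QuotientGroup.mk_pow]
    exact (QuotientGroup.eq_one_iff _).2 h2
  · intro h3
    exact h1 ((QuotientGroup.eq_one_iff _).1 h3)

/-- a subgroup of prime order is generated by any of its elements `≠ 1` -/
theorem exists_rep {S : Type*} [Group S] {r : ℕ} (hr : r.Prime) {R : Subgroup S} (hR : Nat.card R = r) :
    ∃ s : S, R = Subgroup.zpowers s := by
  have : Fact r.Prime := ⟨hr⟩
  have : IsCyclic R := isCyclic_of_prime_card hR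
  obtain ⟨s, hs⟩ := IsCyclic.exists_generator (α := R)
  refine ⟨s, le_antisymm ?_ ?_⟩
  · intro t ht
    obtain ⟨k, hk⟩ := Subgroup.mem_zpowers_iff.1 (hs ⟨t, ht⟩)
    exact Subgroup.mem_zpowers_iff.2 ⟨k, by rw [← Subgroup.coe_zpow, hk]⟩
  · exact (Subgroup.zpowers_le).2 s.2

/-- **coverage, general form.** -/
theorem cov_sum (H : QS p K V G L h) {r : ℕ} (hr : r.Prime) (hrh : r ∣ h)
    (hout : ¬ r ∣ Nat.card (MulAut (L ⧸ Subgroup.center L)) / Nat.card (L ⧸ Subgroup.center L))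
    (f : Subgroup (L ⧸ Subgroup.center L) → ℕ)
    (hf : ∀ x : L, x ∉ Subgroup.center L → x ^ r ∈ Subgroup.center L →
      Nat.card {v : V // v ≠ 0 ∧ ∃ c : K, (x : V ≃ₗ[ZMod p] V) v = c • v} ≤
        f (Subgroup.zpowers (QuotientGroup.mk x))) :
    Nat.card V - 1 ≤ ∑ R : {R : Subgroup (L ⧸ Subgroup.center L) // Nat.card R = r}, f R := by
  have hrep : ∀ R : {R : Subgroup (L ⧸ Subgroup.center L) // Nat.card R = r},
      ∃ y : L, R.1 = Subgroup.zpowers (QuotientGroup.mk y : L ⧸ Subgroup.center L) := by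
    intro R
    obtain ⟨s, hs⟩ := exists_rep hr R.2
    obtain ⟨y, rfl⟩ := QuotientGroup.mk_surjective s
    exact ⟨y, hs⟩
  choose Y hY using hrep
  have hY1 : ∀ R, Y R ∉ Subgroup.center L := by
    intro R hc
    have h1 : (QuotientGroup.mk (Y R) : L ⧸ Subgroup.center L) = 1 := (QuotientGroup.eq_one_iff _).2 hc
    have h2 := R.2
    rw [hY R, h1, Subgroup.zpowers_one_eq_bot, Subgroup.card_bot] at h2
    exact hr.one_lt.ne h2
  have hY2 : ∀ R, Y R ^ r ∈ Subgroup.center L := by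
    intro R
    rw [← QuotientGroup.eq_one_iff, QuotientGroup.mk_pow]
    have h2 := R.2
    rw [hY R, Nat.card_zpowers] at h2
    rw [← h2]
    exact pow_orderOf_eq_one _
  rw [← natCard_ne_zero]
  refine (natCard_le_sum (ι := {R : Subgroup (L ⧸ Subgroup.center L) // Nat.card R = r}) _
    (fun R v => v ≠ 0 ∧ ∃ c : K, (Y R : V ≃ₗ[ZMod p] V) v = c • v) (fun v hv => ?_)).trans
      (Finset.sum_le_sum (fun R _ => ?_))
  · obtain ⟨x, hx1, hx2, c, hc⟩ := cov H hr hrh hout v hv
    refine ⟨⟨Subgroup.zpowers (QuotientGroup.mk x), card_zpowers_mk x hr hx1 hx2⟩, hv, ?_⟩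
    set R : {R : Subgroup (L ⧸ Subgroup.center L) // Nat.card R = r} :=
      ⟨Subgroup.zpowers (QuotientGroup.mk x), card_zpowers_mk x hr hx1 hx2⟩ with hR
    have h1 : (QuotientGroup.mk (Y R) : L ⧸ Subgroup.center L) ∈
        Subgroup.zpowers (QuotientGroup.mk x : L ⧸ Subgroup.center L) := by
      have h2 : (QuotientGroup.mk (Y R) : L ⧸ Subgroup.center L) ∈ R.1 := (hY R).symm ▸ Subgroup.mem_zpowers _
      exact h2
    obtain ⟨j, hj⟩ : ∃ i : ℕ, (QuotientGroup.mk x : L ⧸ Subgroup.center L) ^ i = QuotientGroup.mk (Y R) :=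
      (mem_powers_iff_mem_zpowers (x := (QuotientGroup.mk x : L ⧸ Subgroup.center L))).2 h1
    have h3 : (x ^ j)⁻¹ * Y R ∈ Subgroup.center L := by
      rw [← QuotientGroup.eq_one_iff, QuotientGroup.mk_mul, QuotientGroup.mk_inv, QuotientGroup.mk_pow, hj,
        inv_mul_cancel]
    obtain ⟨d, hd⟩ := scal_of_mem_center H h3
    have h4 : ∀ k : ℕ, ((x ^ k : L) : V ≃ₗ[ZMod p] V) v = c ^ k • v := by
      intro k
      induction k with
      | zero => simp
      | succ k ih =>
        rw [pow_succ, Subgroup.coe_mul]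
        change ((x ^ k : L) : V ≃ₗ[ZMod p] V) ((x : V ≃ₗ[ZMod p] V) v) = _
        rw [hc, H.lin _ (x ^ k).2, ih, smul_smul, ← pow_succ']
    refine ⟨d * c ^ j, ?_⟩
    have h5 : ((Y R : L) : V ≃ₗ[ZMod p] V) v =
        ((x ^ j : L) : V ≃ₗ[ZMod p] V) (((((x ^ j)⁻¹ * Y R : L)) : V ≃ₗ[ZMod p] V) v) := by
      change _ = (((x ^ j * ((x ^ j)⁻¹ * Y R) : L)) : V ≃ₗ[ZMod p] V) v
      rw [mul_inv_cancel_left]
    rw [h5, hd, H.lin _ (x ^ j).2, h4, smul_smul]
  · have h1 := hf (Y R) (hY1 R) (hY2 R)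
    rw [← hY R] at h1
    exact h1

/-- **(COV), counted.** -/
theorem cov_card (H : QS p K V G L h) {r : ℕ} (hr : r.Prime) (hrh : r ∣ h)
    (hout : ¬ r ∣ Nat.card (MulAut (L ⧸ Subgroup.center L)) / Nat.card (L ⧸ Subgroup.center L))
    {d k N : ℕ}
    (hd : ∀ x : L, x ∉ Subgroup.center L → x ^ r ∈ Subgroup.center L → ∀ c : K,
      Nat.card {v : V // (x : V ≃ₗ[ZMod p] V) v = c • v} ≤ Nat.card K ^ d)
    (hk : Module.finrank K V ≤ k * d)
    (hN : Nat.card {R : Subgroup (L ⧸ Subgroup.center L) // Nat.card R = r} ≤ N) :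
    Nat.card K ^ Module.finrank K V - 1 ≤ N * k * (Nat.card K ^ d - 1) := by
  have h1 := cov_sum H hr hrh hout (fun _ => k * (Nat.card K ^ d - 1))
    (fun x hx1 hx2 => eig_card H x (hd x hx1 hx2) hk)
  rw [← card_V H]
  refine h1.trans ?_
  rw [Finset.sum_const, smul_eq_mul, Finset.card_univ, ← Nat.card_eq_fintype_card, mul_assoc]
  exact Nat.mul_le_mul_right _ hN

/-! ### Coverage by elements of `L` -/

theorem le_G (H : QS p K V G L h) : L ≤ G := H.le

/-- (COVL) -/
theorem covL (H : QS p K V G L h) {r a : ℕ} (hr : r.Prime) (ha : r ^ a ∣ Nat.card L)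
    (hna : ¬ r ^ a ∣ Nat.card V - 1) :
    ∀ v : V, v ≠ 0 → ∃ x : L, orderOf x = r ∧ (x : V ≃ₗ[ZMod p] V) v = v := by
  intro v hv
  have : Fact r.Prime := ⟨hr⟩
  have h0 : 0 < h := lt_of_lt_of_le (by norm_num) H.two_le
  obtain ⟨m, hm, -⟩ := exists_m H.half ⟨v, hv⟩
  have h1 := orbit_normal_dvd_m H.half h0 hm L H.le H.nrm hv
  have h2 := dvd_card_sub_one H.half h0 hm
  have h3 := MulAction.card_orbit_mul_card_stabilizer_eq_card_group L v
  rw [← Nat.card_eq_fintype_card, ← Nat.card_eq_fintype_card, ← Nat.card_eq_fintype_card] at h3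
  have h4 : r ∣ Nat.card (MulAction.stabilizer L v) := by
    by_contra hc
    apply hna
    refine dvd_trans ?_ (h1.trans h2)
    have h5 : Nat.Coprime (r ^ a) (Nat.card (MulAction.stabilizer L v)) :=
      Nat.Coprime.pow_left _ ((Nat.Prime.coprime_iff_not_dvd hr).2 hc)
    rw [← h3] at ha
    exact h5.dvd_of_dvd_mul_right ha
  obtain ⟨g, hg⟩ := exists_prime_orderOf_dvd_card' r h4
  refine ⟨(g : L), ?_, g.2⟩
  rw [← hg, Subgroup.orderOf_coe]

/-- **(COVL), general form.** -/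
theorem covL_sum (H : QS p K V G L h) {r a : ℕ} (hr : r.Prime) (ha : r ^ a ∣ Nat.card L)
    (hna : ¬ r ^ a ∣ Nat.card V - 1) (hz : ¬ r ∣ Nat.card (Subgroup.center L))
    (f : Subgroup (L ⧸ Subgroup.center L) → ℕ)
    (hf : ∀ x : L, orderOf x = r →
      Nat.card {v : V // v ≠ 0 ∧ (x : V ≃ₗ[ZMod p] V) v = v} ≤ f (Subgroup.zpowers (QuotientGroup.mk x))) :
    Nat.card V - 1 ≤ ∑ R : {R : Subgroup (L ⧸ Subgroup.center L) // Nat.card R = r}, f R := by
  have hnc : ∀ x : L, orderOf x = r → x ∉ Subgroup.center L := by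
    intro x hx hc
    apply hz
    rw [← hx, ← Subgroup.orderOf_mk x hc]
    exact orderOf_dvd_natCard _
  let Y : {R : Subgroup (L ⧸ Subgroup.center L) // Nat.card R = r} → L := fun R =>
    if hR : ∃ x : L, orderOf x = r ∧ R.1 = Subgroup.zpowers (QuotientGroup.mk x : L ⧸ Subgroup.center L) then
      hR.choose else 1
  have hY : ∀ (R : {R : Subgroup (L ⧸ Subgroup.center L) // Nat.card R = r}) (x : L), orderOf x = r →
      R.1 = Subgroup.zpowers (QuotientGroup.mk x : L ⧸ Subgroup.center L) →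
      orderOf (Y R) = r ∧ R.1 = Subgroup.zpowers (QuotientGroup.mk (Y R) : L ⧸ Subgroup.center L) := by
    intro R x h1 h2
    have hR : ∃ x : L, orderOf x = r ∧ R.1 = Subgroup.zpowers (QuotientGroup.mk x : L ⧸ Subgroup.center L) :=
      ⟨x, h1, h2⟩
    have : Y R = hR.choose := dif_pos hR
    rw [this]
    exact hR.choose_spec
  rw [← natCard_ne_zero]
  refine (natCard_le_sum (ι := {R : Subgroup (L ⧸ Subgroup.center L) // Nat.card R = r}) _
    (fun R v => v ≠ 0 ∧ orderOf (Y R) = r ∧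
      R.1 = Subgroup.zpowers (QuotientGroup.mk (Y R) : L ⧸ Subgroup.center L) ∧
      (Y R : V ≃ₗ[ZMod p] V) v = v) (fun v hv => ?_)).trans
      (Finset.sum_le_sum (fun R _ => ?_))
  · obtain ⟨x, hx1, hx⟩ := covL H hr ha hna v hv
    have hx2 : x ^ r ∈ Subgroup.center L := by
      rw [← hx1, pow_orderOf_eq_one]; exact one_mem _
    refine ⟨⟨Subgroup.zpowers (QuotientGroup.mk x), card_zpowers_mk x hr (hnc x hx1) hx2⟩, hv, ?_⟩
    set R : {R : Subgroup (L ⧸ Subgroup.center L) // Nat.card R = r} :=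
      ⟨Subgroup.zpowers (QuotientGroup.mk x), card_zpowers_mk x hr (hnc x hx1) hx2⟩ with hR
    obtain ⟨hy1, hy2⟩ := hY R x hx1 rfl
    refine ⟨hy1, hy2, ?_⟩
    have h1 : (QuotientGroup.mk (Y R) : L ⧸ Subgroup.center L) ∈
        Subgroup.zpowers (QuotientGroup.mk x : L ⧸ Subgroup.center L) := by
      have h2 : (QuotientGroup.mk (Y R) : L ⧸ Subgroup.center L) ∈ R.1 := hy2.symm ▸ Subgroup.mem_zpowers _
      exact h2
    obtain ⟨j, hj⟩ : ∃ i : ℕ, (QuotientGroup.mk x : L ⧸ Subgroup.center L) ^ i = QuotientGroup.mk (Y R) :=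
      (mem_powers_iff_mem_zpowers (x := (QuotientGroup.mk x : L ⧸ Subgroup.center L))).2 h1
    set z := (x ^ j)⁻¹ * Y R with hz'
    have h3 : z ∈ Subgroup.center L := by
      rw [← QuotientGroup.eq_one_iff, hz', QuotientGroup.mk_mul, QuotientGroup.mk_inv, QuotientGroup.mk_pow, hj,
        inv_mul_cancel]
    have h4 : Y R = x ^ j * z := by rw [hz', mul_inv_cancel_left]
    have h5 : z ^ r = 1 := by
      have h6 : Commute (x ^ j) z := Subgroup.mem_center_iff.1 h3 (x ^ j)
      have h7 : (Y R) ^ r = 1 := by rw [← hy1, pow_orderOf_eq_one]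
      rw [h4, h6.mul_pow, ← pow_mul, mul_comm j, pow_mul, ← hx1, pow_orderOf_eq_one, one_pow, one_mul, hx1] at h7
      exact h7
    have h6 : z = 1 := by
      by_contra hne
      have : Fact r.Prime := ⟨hr⟩
      have h7 : orderOf z = r := orderOf_eq_prime h5 hne
      exact hnc z h7 h3
    rw [h4, h6, mul_one]
    have h7 : ∀ k : ℕ, ((x ^ k : L) : V ≃ₗ[ZMod p] V) v = v := by
      intro k
      induction k with
      | zero => simp
      | succ k ih =>
        rw [pow_succ, Subgroup.coe_mul]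
        change ((x ^ k : L) : V ≃ₗ[ZMod p] V) ((x : V ≃ₗ[ZMod p] V) v) = _
        rw [hx, ih]
    exact h7 j
  · by_cases hc : orderOf (Y R) = r ∧
      R.1 = Subgroup.zpowers (QuotientGroup.mk (Y R) : L ⧸ Subgroup.center L)
    · have h1 := hf (Y R) hc.1
      rw [← hc.2] at h1
      refine le_trans (le_of_eq ?_) h1
      exact Nat.card_congr (Equiv.subtypeEquivRight (fun v =>
        ⟨fun h => ⟨h.1, h.2.2.2⟩, fun h => ⟨h.1, hc.1, hc.2, h.2⟩⟩))
    · have : IsEmpty {v : V // v ≠ 0 ∧ orderOf (Y R) = r ∧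
          R.1 = Subgroup.zpowers (QuotientGroup.mk (Y R) : L ⧸ Subgroup.center L) ∧
          (Y R : V ≃ₗ[ZMod p] V) v = v} := ⟨fun v => hc ⟨v.2.2.1, v.2.2.2.1⟩⟩
      rw [Nat.card_of_isEmpty]
      exact Nat.zero_le _

/-- **(COVL), counted.** -/
theorem covL_card (H : QS p K V G L h) {r a : ℕ} (hr : r.Prime) (ha : r ^ a ∣ Nat.card L)
    (hna : ¬ r ^ a ∣ Nat.card V - 1) (hz : ¬ r ∣ Nat.card (Subgroup.center L)) {d N : ℕ}
    (hd : ∀ x : L, orderOf x = r → Nat.card {v : V // (x : V ≃ₗ[ZMod p] V) v = v} ≤ Nat.card K ^ d)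
    (hN : Nat.card {R : Subgroup (L ⧸ Subgroup.center L) // Nat.card R = r} ≤ N) :
    Nat.card K ^ Module.finrank K V - 1 ≤ N * (Nat.card K ^ d - 1) := by
  have h1 := covL_sum H hr ha hna hz (fun _ => Nat.card K ^ d - 1) (fun x hx => by
    rw [natCard_ne_zero_and (fun v : V => (x : V ≃ₗ[ZMod p] V) v = v) (map_zero _)]
    exact Nat.sub_le_sub_right (hd x hx) 1)
  rw [← card_V H]
  refine h1.trans ?_
  rw [Finset.sum_const, smul_eq_mul, Finset.card_univ, ← Nat.card_eq_fintype_card]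
  exact Nat.mul_le_mul_right _ hN

/-! ### Elements with fixed vectors -/

/-- the sum of the powers of `x` -/
def sp (x : V ≃ₗ[ZMod p] V) (r : ℕ) (v : V) : V := ∑ i ∈ Finset.range r, (x ^ i) v

omit [Finite V] in
theorem sp_fixed {x : V ≃ₗ[ZMod p] V} {r : ℕ} (hx : x ^ r = 1) (v : V) : x (sp x r v) = sp x r v := by
  rcases Nat.eq_zero_or_pos r with rfl | hr
  · simp [sp]
  obtain ⟨r, rfl⟩ : ∃ s, r = s + 1 := ⟨r - 1, by omega⟩
  unfold sp
  rw [map_sum]
  have h1 : ∀ i, x ((x ^ i) v) = (x ^ (i + 1)) v := by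
    intro i
    rw [pow_succ']; rfl
  rw [Finset.sum_congr rfl (fun i _ => h1 i), Finset.sum_range_succ, Finset.sum_range_succ']
  rw [hx, pow_zero]

/-- a non-identity element of order `r`, prime, of `G` without fixed vector sums up to zero -/
theorem sp_zero (H : QS p K V G L h) {r : ℕ} (hr : r.Prime) (hrh : ¬ r ∣ h) {x : V ≃ₗ[ZMod p] V} (hx : x ∈ G)
    (hxr : x ^ r = 1) (hx1 : x ≠ 1) (v : V) : sp x r v = 0 := by
  by_contra hc
  have : Fact r.Prime := ⟨hr⟩
  apply hrh
  refine dvd_h H.half (g := ⟨x, hx⟩) ?_ hc (sp_fixed hxr v)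
  refine orderOf_eq_prime (Subtype.ext hxr) ?_
  intro h1
  exact hx1 (congrArg Subtype.val h1)

theorem p_ne (H : QS p K V G L h) {r : ℕ} (hr : r.Prime) {x : V ≃ₗ[ZMod p] V} (hx : x ∈ G)
    (hxr : x ^ r = 1) (hx1 : x ≠ 1) : r ≠ p := by
  rintro rfl
  apply H.cop
  have : orderOf (⟨x, hx⟩ : G) = r := by
    refine orderOf_eq_prime (Subtype.ext hxr) ?_
    intro h1
    exact hx1 (congrArg Subtype.val h1)
  have h2 : orderOf (⟨x, hx⟩ : G) ∣ Nat.card G := orderOf_dvd_natCard _
  rwa [this] at h2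

omit [Finite V] in
theorem cast_smul_eq_zero {n : ℕ} (hn : ¬ p ∣ n) {v : V} (h : n • v = 0) : v = 0 := by
  have h1 : ((n : ZMod p)) • v = 0 := by rw [Nat.cast_smul_eq_nsmul, h]
  rcases smul_eq_zero.1 h1 with h2 | h2
  · exact absurd ((ZMod.natCast_eq_zero_iff _ _).1 h2) hn
  · exact h2

/-- **(R2)**, for two commuting elements of order `r`. -/
theorem rank_two' (H : QS p K V G L h) {r : ℕ} (hr : r.Prime) {a b : V ≃ₗ[ZMod p] V} (ha : a ∈ G) (hb : b ∈ G)
    (hab : a * b = b * a) (har : a ^ r = 1) (hbr : b ^ r = 1) (ha1 : a ≠ 1)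
    (hba : b ∉ Subgroup.zpowers a) : r ∣ h := by
  by_contra hrh
  obtain ⟨v, hv⟩ := exists_ne_zero H
  apply hv
  have hcomm : Commute a b := hab
  -- the elements `a ^ i * b`
  have h1 : ∀ i, sp (a ^ i * b) r v = 0 := by
    intro i
    refine sp_zero H hr hrh (G.mul_mem (G.pow_mem ha i) hb) ?_ ?_ v
    · rw [(hcomm.pow_left i).mul_pow, ← pow_mul, mul_comm i, pow_mul, har, one_pow, hbr, mul_one]
    · intro hc
      apply hba
      have : b = (a ^ i)⁻¹ := (inv_eq_of_mul_eq_one_right hc).symm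
      rw [this]
      exact Subgroup.inv_mem _ (Subgroup.pow_mem _ (Subgroup.mem_zpowers a) i)
  have h2 : ∑ i ∈ Finset.range r, sp (a ^ i * b) r v = 0 :=
    Finset.sum_eq_zero (fun i _ => h1 i)
  unfold sp at h2
  rw [Finset.sum_comm] at h2
  have h3 : ∀ j ∈ Finset.range r, j ≠ 0 → ∑ i ∈ Finset.range r, ((a ^ i * b) ^ j) v = 0 := by
    intro j hj hj0
    have hjr : j < r := Finset.mem_range.1 hj
    have h4 : ∀ i, ((a ^ i * b) ^ j) v = ((a ^ j) ^ i) ((b ^ j) v) := by
      intro i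
      rw [(hcomm.pow_left i).mul_pow, ← pow_mul, mul_comm i, pow_mul]; rfl
    rw [Finset.sum_congr rfl (fun i _ => h4 i)]
    refine sp_zero H hr hrh (G.pow_mem ha j) ?_ ?_ _
    · rw [← pow_mul, mul_comm, pow_mul, har, one_pow]
    · intro hc
      have h5 : orderOf a = r := by
        have : Fact r.Prime := ⟨hr⟩
        exact orderOf_eq_prime har ha1
      have h6 := orderOf_dvd_of_pow_eq_one hc
      rw [h5] at h6
      exact absurd (Nat.le_of_dvd (by omega) h6) (by omega)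
  rw [Finset.sum_eq_single_of_mem 0 (Finset.mem_range.2 hr.pos) h3] at h2
  simp only [pow_zero] at h2
  rw [Finset.sum_const, Finset.card_range] at h2
  refine cast_smul_eq_zero (p := p) ?_ h2
  intro hd
  exact p_ne H hr ha har ha1 ((Nat.prime_dvd_prime_iff_eq (Fact.out : p.Prime) hr).1 hd).symm

/-- **(R2)** -/
theorem rank_two (H : QS p K V G L h) {r : ℕ} (hr : r.Prime) (E : Subgroup L)
    (hc : ∀ x ∈ E, ∀ y ∈ E, x * y = y * x) (he : ∀ x ∈ E, x ^ r = 1) (hcyc : ¬ IsCyclic E) : r ∣ h := by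
  obtain ⟨a, ha, ha1⟩ : ∃ a ∈ E, a ≠ 1 := by
    by_contra hcon
    push Not at hcon
    apply hcyc
    refine ⟨⟨1, fun x => ?_⟩⟩
    have : x = 1 := Subtype.ext (hcon x x.2)
    exact Subgroup.mem_zpowers_iff.2 ⟨0, by rw [this, zpow_zero]⟩
  obtain ⟨b, hb, hba⟩ : ∃ b ∈ E, b ∉ Subgroup.zpowers a := by
    by_contra hcon
    push Not at hcon
    apply hcyc
    refine ⟨⟨⟨a, ha⟩, fun x => ?_⟩⟩
    obtain ⟨k, hk⟩ := Subgroup.mem_zpowers_iff.1 (hcon x x.2)
    exact Subgroup.mem_zpowers_iff.2 ⟨k, Subtype.ext hk⟩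
  refine rank_two' H hr (a := (a : V ≃ₗ[ZMod p] V)) (b := (b : V ≃ₗ[ZMod p] V)) (H.le a.2) (H.le b.2)
    (congrArg Subtype.val (hc a ha b hb)) (congrArg Subtype.val (he a ha)) (congrArg Subtype.val (he b hb)) ?_ ?_
  · intro h1
    exact ha1 (Subtype.ext h1)
  · intro h1
    apply hba
    obtain ⟨k, hk⟩ := Subgroup.mem_zpowers_iff.1 h1
    exact Subgroup.mem_zpowers_iff.2 ⟨k, Subtype.ext hk⟩

end Cfsg.Agent.H578.HT
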